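import Groth.Agent.H15.KoszulTor.Basic
import Groth.Agent.Lib.Koszul.NullCone
import Groth.Agent.Lib.DeRhamAlg.Basic
import Mathlib.Algebra.Homology.Embedding.CochainComplex
import Mathlib.LinearAlgebra.ExteriorPower.Basis

/-!
# Tor of two Koszul-regular quotients with a common part
-/

set_option autoImplicit false
set_option backward.isDefEq.respectTransparency false
set_option linter.style.haveILetI false

universe u

namespace Groth.Agent.Lib.TorKoszul62.Basic

open CategoryTheory CategoryTheory.Limits HomologicalComplex Groth.Agent.Lib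
open Groth.Agent.Lib.Koszul.Basic Module

variable {A : Type u} [CommRing A]

/-- The degree-0 quotient of a regular Koszul complex, as a quasi-isomorphism. -/
theorem exists_quasiIso (l : List A) (hl : LCI.IsKoszulRegularSeq A l) :
    ∃ g : koszulOn (sgl (ModuleCat.of A A)) l ⟶ sgl (ModuleCat.of A (A ⧸ Ideal.ofList l)),
      QuasiIso g := by
  let C := koszulOn (sgl (ModuleCat.of A A)) l
  have hz : ∀ i : ℤ, i ≠ 0 → IsZero (C.homology i) := fun i hi =>
    (hl i hi).of_iso (koszulHomologyIso l i).symm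
  haveI hGE : C.IsGE 0 := (CochainComplex.isGE_iff C 0).2 fun i hi =>
    (C.exactAt_iff_isZero_homology i).2 (hz i hi.ne)
  haveI hLE : C.IsStrictlyLE 0 := (CochainComplex.isStrictlyLE_iff C 0).2 fun i hi => by
    have h := Groth.Agent.H19.Koszul.TorChi.isZero_X l i hi
    rwa [koszul_eq l] at h
  haveI : (C.truncGE 0).IsStrictlyLE 0 := by infer_instance
  obtain ⟨M, ⟨e⟩⟩ := CochainComplex.exists_iso_single (C.truncGE 0) 0
  let g0 : C ⟶ sgl M := C.πTruncGE 0 ≫ e.hom
  haveI : QuasiIso g0 := quasiIso_comp _ _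
  obtain ⟨e0⟩ := nonempty_homology_zero (ModuleCat.of A A) l
  let eM : M ≅ ModuleCat.of A (A ⧸ Ideal.ofList l) :=
    (HomologicalComplex.singleObjHomologySelfIso (ComplexShape.up ℤ) 0 M).symm ≪≫
      (isoOfQuasiIsoAt g0 0).symm ≪≫
      (e0.trans (Submodule.quotEquivOfEq _ _ (by rw [Ideal.smul_top_eq_map]; simp))).toModuleIso
  exact ⟨g0 ≫ ((HomologicalComplex.single (ModuleCat.{u} A) (ComplexShape.up ℤ) 0).mapIso eM).hom,
    quasiIso_comp _ _⟩

/-- Projection to the only possibly nonzero component. -/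
theorem nonempty_pi_single {ι : Type*} [DecidableEq ι] {P : ι → Type*} [∀ i, AddCommGroup (P i)]
    [∀ i, Module A (P i)] (j : ι) (h : ∀ i, i ≠ j → Subsingleton (P i)) :
    Nonempty ((∀ i, P i) ≃ₗ[A] P j) := by
  refine ⟨LinearEquiv.ofBijective (LinearMap.proj j) ⟨fun x y hxy => ?_, fun z => ⟨Pi.single j z, ?_⟩⟩⟩
  · funext i
    by_cases hij : i = j
    · subst hij; exact hxy
    · exact @Subsingleton.elim _ (h i hij) _ _
  · exact Pi.single_eq_same j z

omit [CommRing A] in
theorem perm_list (f g h : List A) : ((f ++ g) ++ (f ++ h)).Perm (f ++ (f ++ g ++ h)) := by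
  rw [List.append_assoc f g (f ++ h)]
  refine List.Perm.append_left f ?_
  rw [← List.append_assoc g f h]
  exact List.Perm.append_right h List.perm_append_comm

/-- `Tor_i(A/(f,g), A/(f,h))` is free over `A/(f,g,h)` of rank `(r choose i)`. -/
theorem nonempty_tor_equiv (f g h : List A) (hfg : LCI.IsKoszulRegularSeq A (f ++ g))
    (hfh : LCI.IsKoszulRegularSeq A (f ++ h)) (hfgh : LCI.IsKoszulRegularSeq A (f ++ g ++ h))
    (i : ℕ) :
    Nonempty (↥(((CategoryTheory.Tor (ModuleCat.{u} A) i).obj (ModuleCat.of A (A ⧸ Ideal.ofList (f ++ g)))).obj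
      (ModuleCat.of A (A ⧸ Ideal.ofList (f ++ h)))) ≃ₗ[A]
      (Fin (f.length.choose i) → A ⧸ Ideal.ofList (f ++ g ++ h))) := by
  obtain ⟨t⟩ := Groth.Agent.H15.KoszulTor.Basic.tor_iso (f ++ g) hfg
    (ModuleCat.of A (A ⧸ Ideal.ofList (f ++ h))) i
  obtain ⟨q, hq⟩ := exists_quasiIso (f ++ h) hfh
  obtain ⟨p⟩ := Koszul.Tensor.nonempty_iso_of_perm (sgl (ModuleCat.of A A)) (perm_list f g h)
  let D := koszulOn (sgl (ModuleCat.of A A)) (f ++ g ++ h)
  let t' := t ≪≫ Koszul.Tensor.tensorHomologyIso _ _ _ ≪≫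
    (homologyIsoOfQuasiIso q (f ++ g) (-(i : ℤ))).symm ≪≫
    (HomologicalComplex.homologyFunctor _ _ (-(i : ℤ))).mapIso
      (eqToIso (koszulOn_append _ (f ++ g) (f ++ h)).symm ≪≫ p ≪≫
        eqToIso (koszulOn_append _ f (f ++ g ++ h)))
  obtain ⟨e⟩ := Koszul.NullCone.nonempty_equiv_choose D f
    (fun y hy => exists_homotopy_of_mem _ _ (List.mem_append_left _ (List.mem_append_left _ hy)))
    (-(i : ℤ))
  have hsub : ∀ j : Fin (f.length + 1), (j : ℕ) ≠ i →
      Subsingleton (Fin (f.length.choose j) → D.homology (-(i : ℤ) + (j : ℕ))) := fun j hj => by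
    have : Subsingleton (D.homology (-(i : ℤ) + (j : ℕ))) := ModuleCat.subsingleton_of_isZero
      ((hfgh _ (by omega)).of_iso (koszulHomologyIso _ _).symm)
    infer_instance
  by_cases hi : i ≤ f.length
  · obtain ⟨e1⟩ := nonempty_pi_single (A := A) (P := fun j : Fin (f.length + 1) =>
      Fin (f.length.choose j) → D.homology (-(i : ℤ) + (j : ℕ))) ⟨i, Nat.lt_succ_of_le hi⟩
      (fun j hj => hsub j fun hji => hj (Fin.ext hji))
    obtain ⟨e0⟩ := nonempty_homology_zero (ModuleCat.of A A) (f ++ g ++ h)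
    exact ⟨t'.toLinearEquiv ≪≫ₗ e ≪≫ₗ e1 ≪≫ₗ LinearEquiv.piCongrRight fun _ =>
      Koszul.NullCone.castH D (by simp) ≪≫ₗ e0 ≪≫ₗ
        Submodule.quotEquivOfEq _ _ (by rw [Ideal.smul_top_eq_map]; simp)⟩
  · have : ∀ j : Fin (f.length + 1),
        Subsingleton (Fin (f.length.choose j) → D.homology (-(i : ℤ) + (j : ℕ))) :=
      fun j => hsub j (by omega)
    have : IsEmpty (Fin (f.length.choose i)) := by
      rw [Nat.choose_eq_zero_of_lt (not_le.1 hi)]; infer_instance
    exact ⟨t'.toLinearEquiv ≪≫ₗ e ≪≫ₗ LinearEquiv.ofSubsingleton _ _⟩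

/-- Positive exterior powers over `A` of a free module over a quotient of `A`. -/
theorem nonempty_exterior_equiv {B : Type u} [CommRing B] [Algebra A B]
    (hAB : Function.Surjective (algebraMap A B)) (r i : ℕ) (hi : 1 ≤ i) :
    Nonempty (↥(⋀[A]^i (Fin r → B)) ≃ₗ[A] (Fin (r.choose i) → B)) := by
  classical
  let S := Set.powersetCard (Fin r) i
  let bB := (Pi.basisFun B (Fin r)).exteriorPower i
  let w : S → ↥(⋀[A]^i (Fin r → B)) := exteriorPower.ιMulti_family A i (Pi.basisFun B (Fin r))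
  let Φ : ↥(⋀[A]^i (Fin r → B)) →ₗ[A] (S → B) :=
    (bB.equivFun.toLinearMap.restrictScalars A) ∘ₗ
      DeRhamAlg.Basic.semimap (B := B) (LinearMap.id : (Fin r → B) →ₗ[A] (Fin r → B)) i
  have hΦ : ∀ s, Φ (w s) = Pi.single s 1 := fun s => by
    change bB.equivFun (DeRhamAlg.Basic.semimap (B := B) LinearMap.id i (w s)) = _
    rw [show DeRhamAlg.Basic.semimap (B := B) LinearMap.id i (w s) = bB s by
      simp only [w, bB, exteriorPower.basis_apply, exteriorPower.ιMulti_family,
        DeRhamAlg.Basic.semimap_ιMulti]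
      rfl]
    funext t
    rw [Module.Basis.equivFun_self]
    by_cases hst : s = t
    · subst hst; simp
    · simp [hst]
  have hkill : ∀ (c : A), algebraMap A B c = 0 → ∀ s, c • w s = 0 := fun c hc s => by
    simp only [w, exteriorPower.ιMulti_family]
    set v : Fin i → Fin r → B := _ ∘ _
    have hv : c • v ⟨0, hi⟩ = 0 := by
      funext j
      simp [Algebra.smul_def, hc]
    have h := (exteriorPower.ιMulti A i).map_update_smul v ⟨0, hi⟩ c (v ⟨0, hi⟩)
    rw [Function.update_eq_self, hv,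
      (exteriorPower.ιMulti A i).map_coord_zero ⟨0, hi⟩ (Function.update_self ..)] at h
    exact h.symm
  have hspanv : Submodule.span A (Set.range (Pi.basisFun B (Fin r))) = ⊤ := by
    rw [← Submodule.restrictScalars_span A B hAB, (Pi.basisFun B (Fin r)).span_eq]
    rfl
  have hspan : Submodule.span A (Set.range w) = ⊤ :=
    exteriorPower.ιMulti_family_span_of_span A hspanv
  have hsum : ∀ y, ∃ c : S → A, ∑ s, c s • w s = y := fun y =>
    (Submodule.mem_span_range_iff_exists_fun A).1 (hspan ▸ Submodule.mem_top)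
  have hΦsum : ∀ c : S → A, Φ (∑ s, c s • w s) = fun s => algebraMap A B (c s) := fun c => by
    funext t
    simp only [map_sum, map_smul, hΦ, Finset.sum_apply, Pi.smul_apply]
    rw [Finset.sum_eq_single t (fun s _ hs => by simp [Pi.single_eq_of_ne (Ne.symm hs)])
      (fun h => absurd (Finset.mem_univ t) h)]
    simp [Algebra.smul_def]
  have hbij : Function.Bijective Φ := by
    refine ⟨(injective_iff_map_eq_zero Φ).2 fun y hy => ?_, fun b => ?_⟩
    · obtain ⟨c, rfl⟩ := hsum y
      rw [hΦsum] at hy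
      exact Finset.sum_eq_zero fun s _ => hkill _ (congrFun hy s) s
    · choose c hc using fun s => hAB (b s)
      exact ⟨∑ s, c s • w s, (hΦsum c).trans (funext hc)⟩
  exact ⟨LinearEquiv.ofBijective Φ hbij ≪≫ₗ LinearEquiv.funCongrLeft A B
    (Finite.equivFinOfCardEq ((Set.powersetCard.card (α := Fin r) (n := i)).trans (by simp))).symm⟩

end Groth.Agent.Lib.TorKoszul62.Basic
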